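import Cfsg.Agent.ThompsonSeven.Good
import Cfsg.Agent.KInf.Control
import Cfsg.Agent.FusSys.ThompsonA
import Cfsg.Agent.Fusion.Tate

/-!
# For `p ≥ 7` the normalizer of the Thompson subgroup controls transfer
-/

set_option autoImplicit false

namespace Cfsg.Agent.ThompsonSeven

open Subgroup KInf
open scoped commutatorElement

universe u

variable {p : ℕ} [hp : Fact p.Prime]

theorem isCharPFunctor_jW : Cfsg.IsCharPFunctor.{u} p FusSys.jW :=
  ⟨(FusSys.posFunctor_jW (p := p)).ne_bot, (FusSys.posFunctor_jW (p := p)).map_eq⟩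

/-- An element of degree six when the Thompson subgroup is not normal. -/
theorem exists_good_of_not_normal {G : Type u} [Group G] [Finite G] (T : Sylow p G)
    (hn : ¬ (Cfsg.thompsonSubgroupAOf (T : Subgroup G)).Normal) :
    ∃ g ∈ (T : Subgroup G), g ∉ Cfsg.pCore p G ∧ Good g 6 (Cfsg.pCore p G) := by
  set Q := Cfsg.pCore p G with hQ
  have hQT : Q ≤ (T : Subgroup G) := Core.pCore_le_sylow T
  by_cases h : ∃ A, Fusion.AbMax 0 (T : Subgroup G) A ∧ ¬ A ≤ Q
  · obtain ⟨A, hA, hout⟩ := h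
    exact exists_good hQT T.2 hA hout
  push Not at h
  obtain ⟨A₁, hA₁⟩ := Fusion.exists_abMax 0 (T : Subgroup G)
  have e : {A | Fusion.AbMax 0 (T : Subgroup G) A} = {A | Fusion.AbMax 0 Q A} := by
    ext A
    constructor
    · intro (hA : Fusion.AbMax 0 (T : Subgroup G) A)
      exact ⟨Fusion.abMem_zero_iff.mpr ⟨h A hA, hA.comm⟩, fun B hB =>
        hA.max B (Fusion.abMem_zero_iff.mpr ⟨hB.le.trans hQT, hB.comm⟩)⟩
    · intro (hA : Fusion.AbMax 0 Q A)
      exact ⟨Fusion.abMem_zero_iff.mpr ⟨hA.le.trans hQT, hA.comm⟩, fun B hB => (hA₁.max B hB).trans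
        (hA.max A₁ (Fusion.abMem_zero_iff.mpr ⟨h A₁ hA₁, hA₁.comm⟩))⟩
  refine absurd ?_ hn
  rw [Fusion.thompsonSubgroupAOf_eq, e, ← Fusion.thompsonSubgroupAOf_eq]
  refine normalizer_eq_top_iff.mp (eq_top_iff.mpr fun g _ => ?_)
  exact FusSys.mem_normalizer_thompsonSubgroupAOf
    ((normalizer_eq_top_iff.mpr (inferInstance : Q.Normal)).ge (mem_top g))

/-- For `p ≥ 7` the Thompson subgroup controls transfer in every section. -/
theorem gTr_thompson (h7 : 7 ≤ p) {G : Type u} [Group G] [Finite G] {Y : Type u} [Group Y] [Finite Y]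
    (hY : Control.IsSec Y G) : Control.GTr {FusSys.jW} p Y := by
  have hF : ∀ V ∈ ({FusSys.jW} : Set (∀ (Q : Type u) [Group Q], Subgroup Q)),
      Cfsg.IsCharPFunctor.{u} p V := fun V hV => hV ▸ isCharPFunctor_jW
  refine Control.gTr_of_quotients hF (fun K' R' _ hc IH => ?_) hY
  obtain ⟨T⟩ := (inferInstance : Nonempty (Sylow p (↥K' ⧸ R'.subgroupOf K')))
  refine Control.famTr_iff.mpr ⟨_, Control.sylIn_top T, ?_⟩
  by_cases hn : (Cfsg.inducedFunctor (G := (↥K' ⧸ R'.subgroupOf K')) FusSys.jW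
      (T : Subgroup (↥K' ⧸ R'.subgroupOf K'))).Normal
  · exact Control.trCtrl_of_normal hF rfl T hn
  obtain ⟨hlt, hproper⟩ := Control.proper_normalizer_of_not_normal hF rfl T hn
  obtain ⟨g, hgT, hgQ, hg⟩ := exists_good_of_not_normal T (by
    rw [← FusSys.wsub_jW]; exact hn)
  have hQ : Cfsg.pCore p (↥K' ⧸ R'.subgroupOf K') ≠ ⊥ := fun h0 => by
    rw [h0] at hc hgQ
    refine hgQ (hc (mem_centralizer_iff.mpr fun y hy => ?_))
    rw [mem_bot.mp hy, one_mul, mul_one]
  have hsub := fun (H : Subgroup (↥K' ⧸ R'.subgroupOf K')) (hH : H ≠ ⊤) hTH =>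
    Control.trCtrl_subgroup hF T hTH (IH H (Control.isSec_subgroup H) (Core.card_lt_of_ne_top hH))
  exact Control.trCtrl_of_inf_commutator hF hlt hsub
    (IH _ (Control.isSec_of_surjective (QuotientGroup.mk'_surjective _)) (Core.card_quotient_lt hQ))
    (Control.inf_commutator_le_of_good hlt hsub hproper hgT hgQ (hg.mono_nat (by omega)))

theorem commutator_inf_le (h7 : 7 ≤ p) {G : Type u} [Group G] [Finite G] (S : Sylow p G) :
    commutator G ⊓ (S : Subgroup G) ≤
      ⁅normalizer (Cfsg.thompsonSubgroupAOf (S : Subgroup G) : Set G),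
        normalizer (Cfsg.thompsonSubgroupAOf (S : Subgroup G) : Set G)⁆ := by
  have hF : ∀ V ∈ ({FusSys.jW} : Set (∀ (Q : Type u) [Group Q], Subgroup Q)),
      Cfsg.IsCharPFunctor.{u} p V := fun V hV => hV ▸ isCharPFunctor_jW
  have h := (Control.famTr_iff_forall (Control.isConjugacyFunctor_iF hF)
    (Control.sylIn_top S)).mp (gTr_thompson h7 (Control.IsSec.refl (X := G)))
  rw [Control.TrCtrl, ← _root_.commutator_def] at h
  rw [inf_comm]
  refine h.trans (iSup₂_le ?_)
  rintro _ ⟨_, ⟨V, hV, rfl⟩, rfl⟩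
  rw [Set.mem_singleton_iff.mp hV]
  show _ ⊓ ⁅_ ⊓ normalizer (FusSys.wsub FusSys.jW (S : Subgroup G) : Set G),
    _ ⊓ normalizer (FusSys.wsub FusSys.jW (S : Subgroup G) : Set G)⁆ ≤ _
  rw [FusSys.wsub_jW]
  exact inf_le_right.trans (commutator_mono inf_le_right inf_le_right)

/-- A subgroup over a Sylow subgroup meeting `O^p` as in the whole group has the same largest
`p`-quotient. -/
theorem nonempty_quotient_equiv {G : Type u} [Group G] [Finite G] (S : Sylow p G) (N : Subgroup G)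
    (hSN : (S : Subgroup G) ≤ N)
    (h : (S : Subgroup G) ⊓ Cfsg.pResidual p G =
      (S : Subgroup G) ⊓ (Cfsg.pResidual p N).map N.subtype) :
    Nonempty (G ⧸ Cfsg.pResidual p G ≃* N ⧸ Cfsg.pResidual p N) := by
  set R := Cfsg.pResidual p G with hR
  set RN := Cfsg.pResidual p N with hRN
  let f : N →* G ⧸ R := (QuotientGroup.mk' R).comp N.subtype
  have hle : RN ≤ f.ker := fun x hx => by
    rw [MonoidHom.mem_ker]
    exact (QuotientGroup.eq_one_iff _).mpr (Fusion.map_pResidual_le N.subtype (mem_map_of_mem _ hx))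
  have hsurj : Function.Surjective f := by
    intro q
    obtain ⟨x, rfl⟩ := QuotientGroup.mk_surjective q
    obtain ⟨s, hs, r, hr, rfl⟩ := mem_sup_of_normal_right.mp
      ((Fusion.sylow_sup_pResidual S).ge (mem_top x))
    refine ⟨⟨s, hSN hs⟩, QuotientGroup.eq.mpr ?_⟩
    show s⁻¹ * (s * r) ∈ R
    rwa [inv_mul_cancel_left]
  have hker : f.ker = RN := by
    refine le_antisymm (fun x hx => ?_) hle
    have hxR : (x : G) ∈ R := (QuotientGroup.eq_one_iff _).mp hx
    obtain ⟨s, hs, r, hr, hsr⟩ := mem_sup_of_normal_right.mp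
      ((Fusion.sylow_sup_pResidual (S.subtype hSN)).ge (mem_top x))
    have hrR : (r : G) ∈ R := Fusion.map_pResidual_le N.subtype (mem_map_of_mem _ hr)
    have hsR : (s : G) ∈ R := by
      have := mul_mem hxR (inv_mem hrR)
      rwa [← hsr, Subgroup.coe_mul, mul_inv_cancel_right] at this
    have hsS : (s : G) ∈ (S : Subgroup G) := by
      rw [Sylow.coe_subtype] at hs
      exact hs
    obtain ⟨s', hs', he⟩ : (s : G) ∈ RN.map N.subtype := (h.le (mem_inf.mpr ⟨hsS, hsR⟩)).2
    rw [← hsr]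
    exact mul_mem (Subtype.ext he ▸ hs') hr
  exact ⟨((QuotientGroup.quotientMulEquivOfEq hker.symm).trans
    (QuotientGroup.quotientKerEquivOfSurjective f hsurj)).symm⟩

end Cfsg.Agent.ThompsonSeven
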