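import Cfsg.Agent.ThompsonSeven.Replace
import Cfsg.Agent.KInf.Series

/-!
# Degree of nilpotence on a class-two normal subgroup and on its centre
-/

set_option autoImplicit false
set_option maxHeartbeats 1000000

namespace Cfsg.Agent.ThompsonSeven

open Subgroup KInf
open scoped commutatorElement Pointwise

variable {G : Type*} [Group G] [Finite G] {p : ℕ} [hp : Fact p.Prime]
variable {Q Z A : Subgroup G} [Q.Normal]

omit [Finite G] in
theorem conj_dg {k c x : G} (h : Commute k c) : k * dg c x * k⁻¹ = dg c (k * x * k⁻¹) := by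
  calc k * dg c x * k⁻¹ = (k * x * k⁻¹)⁻¹ * ((k * c) * x * (k * c)⁻¹) := by simp only [dg]; group
    _ = (k * x * k⁻¹)⁻¹ * ((c * k) * x * (c * k)⁻¹) := by rw [h.eq]
    _ = dg c (k * x * k⁻¹) := by simp only [dg]; group

omit [Finite G] in
theorem dg_one (c : G) : dg c (1 : G) = 1 := by simp [dg]

omit [Finite G] in
theorem commute_dg_dg {k c d u : G} (hkc : Commute k c) (hkd : Commute k d)
    (h1 : Commute (dg d u) (dg k u)) (h2 : Commute (dg c (dg d u)) (dg d (dg k u)))
    (h3 : dg c (dg d (dg k u)) = 1) : Commute k (dg c (dg d u)) := by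
  refine mul_inv_eq_iff_eq_mul.mp ?_
  rw [conj_dg hkc, conj_dg hkd, ← mul_dg k u, dg_mul_right h1, dg_mul_right h2, h3, mul_one]

/-- The subgroup generated by the displacements of `u` under `B` and the centraliser of `B`. -/
def disp (A B M : Subgroup G) (u : G) : Subgroup G :=
  closure ({x | ∃ c ∈ A, ∃ k ∈ B, x = c * dg k u * c⁻¹} ∪ ↑(M ⊓ centralizer (B : Set G)))

omit [Finite G] in
theorem disp_le {A B M : Subgroup G} [M.Normal] {u : G} (hf : ∀ k ∈ B, dg k u ∈ M) :
    disp A B M u ≤ M := by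
  refine (closure_le _).mpr (Set.union_subset ?_ fun x hx => hx.1)
  rintro _ ⟨c, -, k, hk, rfl⟩
  exact (‹M.Normal›).conj_mem _ (hf k hk) c

/-- An element of `E` centralised by the displacement-fixing part of `B` has the differences of an
element of `disp`. -/
theorem Pick.mem_disp (h : Pick Q Z A) {M B E : Subgroup G} [M.Normal] (hMc : IsMulCommutative M)
    (hMQ : M ≤ Q) (hB : B ≤ A ⊓ Q)
    (hcard : Nat.card A * Nat.card ↥(M ⊓ A) ≤ Nat.card B * Nat.card ↥(M ⊓ centralizer (B : Set G)))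
    (hEQ : E ≤ Q) (hEM : ∀ x ∈ E, ∀ w ∈ M, Commute x w) {u : G} (hu : u ∈ E)
    (hf : ∀ k ∈ B, dg k u ∈ M) {x : G} (hx : x ∈ E)
    (hxk : ∀ k ∈ B, dg k u ∈ M ⊓ centralizer (B : Set G) → Commute x k) {e : G} (he : e ∈ A) :
    ∃ w ∈ disp A B M u, dg e x = dg e w := by
  have hAc : ∀ {x y : G}, x ∈ A → y ∈ A → Commute x y := fun hx hy =>
    Fusion.commute_of_isMulCommutative h.comm hx hy
  set MB := M ⊓ centralizer (B : Set G) with hMB
  set W := disp A B M u with hW
  set K := B ⊓ centralizer (W : Set G) with hK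
  have hWM : W ≤ M := disp_le hf
  have hMBW : MB ≤ W := fun y hy => subset_closure (Or.inr hy)
  have hfW : ∀ k ∈ B, dg k u ∈ W := fun k hk =>
    subset_closure (Or.inl ⟨1, one_mem A, k, hk, by group⟩)
  have hsym : ∀ i ∈ B, ∀ j ∈ B, Commute i (dg j u) → Commute j (dg i u) := by
    intro i hi j hj hc
    have e1 : dg i u * (i * dg j u * i⁻¹) = dg j u * (j * dg i u * j⁻¹) := by
      rw [← dg_mul, ← dg_mul, (hAc (hB hi).1 (hB hj).1).eq]
    rw [hc.eq, mul_inv_cancel_right,
      (Fusion.commute_of_isMulCommutative hMc (hf i hi) (hf j hj)).eq] at e1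
    exact mul_inv_eq_iff_eq_mul.mp (mul_left_cancel e1).symm
  have hfK : ∀ k ∈ B, k ∈ K ↔ dg k u ∈ MB := by
    intro k hk
    constructor
    · intro hkK
      refine mem_inf.mpr ⟨hf k hk, mem_centralizer_iff.mpr fun i hi => ?_⟩
      exact (hsym k hk i hi (mem_centralizer_iff.mp hkK.2 _ (hfW i hi)).symm).eq
    · intro hkM
      refine mem_inf.mpr ⟨hk, ?_⟩
      have hle : W ≤ centralizer ({k} : Set G) := by
        refine (closure_le _).mpr ?_
        rintro s (⟨c, hc, i, hi, rfl⟩ | hs)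
        · refine mem_centralizer_singleton_iff.mpr ?_
          have h2 : Commute k (dg i u) := hsym i hi k hk (mem_centralizer_iff.mp hkM.2 i hi)
          have h3 : Commute k c := hAc (hB hk).1 hc
          exact ((h3.mul_right h2).mul_right h3.inv_right).symm.eq
        · exact mem_centralizer_singleton_iff.mpr (mem_centralizer_iff.mp hs.2 k hk).symm
      exact mem_centralizer_iff.mpr fun w hw => mem_centralizer_singleton_iff.mp (hle hw)
  have hidx : Nat.card B * Nat.card MB ≤ Nat.card K * Nat.card W := by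
    have hinj : Function.Injective (fun q : B ⧸ K.subgroupOf B =>
        (QuotientGroup.mk ⟨dg q.out u, hfW _ q.out.2⟩ : W ⧸ MB.subgroupOf W)) := by
      intro q q' heq
      have h1 : (dg (q.out : G) u)⁻¹ * dg (q'.out : G) u ∈ MB :=
        mem_subgroupOf.mp ((QuotientGroup.eq (s := MB.subgroupOf W)).mp heq)
      set a : G := (q.out : G)
      set c : G := a⁻¹ * (q'.out : G) with hc
      have haB : a ∈ B := q.out.2
      have hcB : c ∈ B := mul_mem (inv_mem haB) q'.out.2
      rw [show (q'.out : G) = a * c by rw [hc, mul_inv_cancel_left], dg_mul, inv_mul_cancel_left] at h1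
      have h4 := mem_inf.mp h1
      have h5 : Commute a (a * dg c u * a⁻¹) := mem_centralizer_iff.mp h4.2 a haB
      have h6 : a * dg c u * a⁻¹ = dg c u :=
        calc a * dg c u * a⁻¹ = a⁻¹ * (a * (a * dg c u * a⁻¹)) := (inv_mul_cancel_left _ _).symm
          _ = a⁻¹ * (a * dg c u * a⁻¹ * a) := by rw [h5.eq]
          _ = dg c u := by group
      rw [h6] at h1
      rw [← QuotientGroup.out_eq' q, ← QuotientGroup.out_eq' q']
      exact QuotientGroup.eq.mpr (mem_subgroupOf.mpr ((hfK c hcB).mpr h1))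
    have h1 := Nat.card_le_card_of_injective _ hinj
    change (K.subgroupOf B).index ≤ (MB.subgroupOf W).index at h1
    rw [← Subgroup.index_mul_card (K.subgroupOf B),
      Nat.card_congr (subgroupOfEquivOfLe (show K ≤ B from inf_le_left)).toEquiv]
    conv_rhs => rw [← Subgroup.index_mul_card (MB.subgroupOf W),
      Nat.card_congr (subgroupOfEquivOfLe hMBW).toEquiv]
    calc (K.subgroupOf B).index * Nat.card K * Nat.card MB
        ≤ (MB.subgroupOf W).index * Nat.card K * Nat.card MB :=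
          Nat.mul_le_mul_right _ (Nat.mul_le_mul_right _ h1)
      _ = _ := by ring
  set T := closure ((K : Set G) ∪ W) with hT
  have hKT : K ≤ T := fun y hy => subset_closure (Or.inl hy)
  have hWT : W ≤ T := fun y hy => subset_closure (Or.inr hy)
  have hTc : IsMulCommutative T := isMulCommutative_closure (by
    rintro s (hs | hs) t (ht | ht)
    · exact (hAc (hB hs.1).1 (hB ht.1).1).eq
    · exact (mem_centralizer_iff.mp hs.2 t ht).symm
    · exact mem_centralizer_iff.mp ht.2 s hs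
    · exact (Fusion.commute_of_isMulCommutative hMc (hWM hs) (hWM ht)).eq)
  have hTle : T ≤ Q ⊔ A := (closure_le _).mpr (Set.union_subset
    (fun y hy => mem_sup_left (hB hy.1).2) (fun y hy => mem_sup_left (hMQ (hWM hy))))
  have hTcard : Nat.card A ≤ Nat.card T := by
    have h1 := CentLarge.card_mul_le_of_le hKT hWT
    have h2 : Nat.card ↥(K ⊓ W) ≤ Nat.card ↥(M ⊓ A) := Nat.le_of_dvd Nat.card_pos
      (card_dvd_of_le fun y hy => mem_inf.mpr ⟨hWM hy.2, (hB hy.1.1).1⟩)
    exact Nat.le_of_mul_le_mul_right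
      (((hcard.trans hidx).trans h1).trans (Nat.mul_le_mul_left _ h2)) Nat.card_pos
  have hxT : x ∈ T := by
    refine h.mem_of_commute hTle hTc hTcard (mem_sup_left (hEQ hx)) fun y hy => ?_
    have hle : T ≤ centralizer ({x} : Set G) := by
      refine (closure_le _).mpr ?_
      rintro s (hs | hs)
      · exact mem_centralizer_singleton_iff.mpr (hxk s hs.1 ((hfK s hs.1).mp hs)).symm.eq
      · exact mem_centralizer_singleton_iff.mpr (hEM x hx s (hWM hs)).symm.eq
    exact (mem_centralizer_singleton_iff.mp (hle hy)).symm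
  have hdec : ∀ y ∈ T, ∃ k ∈ K, ∃ w ∈ W, y = k * w := by
    intro y hy
    induction hy using closure_induction with
    | mem s hs =>
      rcases hs with hs | hs
      · exact ⟨s, hs, 1, one_mem W, (mul_one s).symm⟩
      · exact ⟨1, one_mem K, s, hs, (one_mul s).symm⟩
    | one => exact ⟨1, one_mem K, 1, one_mem W, (mul_one 1).symm⟩
    | mul s t _ _ h1 h2 =>
      obtain ⟨i, hi, v, hv, rfl⟩ := h1
      obtain ⟨i', hi', v', hv', rfl⟩ := h2
      refine ⟨i * i', mul_mem hi hi', v * v', mul_mem hv hv', ?_⟩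
      have : v * i' = i' * v := mem_centralizer_iff.mp hi'.2 v hv
      calc i * v * (i' * v') = i * (v * i') * v' := by group
        _ = _ := by rw [this]; group
    | inv s _ h1 =>
      obtain ⟨i, hi, v, hv, rfl⟩ := h1
      refine ⟨i⁻¹, inv_mem hi, v⁻¹, inv_mem hv, ?_⟩
      rw [mul_inv_rev]
      exact mem_centralizer_iff.mp (inv_mem hi).2 _ (inv_mem hv)
  obtain ⟨k, hk, w, hw, hkw⟩ := hdec x hxT
  refine ⟨w, hw, ?_⟩
  have hek : dg e k = 1 := dg_eq_one.mpr (hAc he (hB hk.1).1)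
  rw [hkw, dg_mul_right (by rw [hek]; exact Commute.one_left w), hek, one_mul]

/-- Three differences of an element reduce to one difference of an element of `disp`. -/
theorem Pick.three_steps (h : Pick Q Z A) {M B E : Subgroup G} [M.Normal] [E.Normal]
    (hMc : IsMulCommutative M) (hMQ : M ≤ Q) (hB : B ≤ A ⊓ Q)
    (hcard : Nat.card A * Nat.card ↥(M ⊓ A) ≤ Nat.card B * Nat.card ↥(M ⊓ centralizer (B : Set G)))
    (hquad : ∀ w ∈ M ⊓ centralizer (B : Set G), ∀ c ∈ A, ∀ d ∈ A, dg c (dg d w) = 1)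
    (hEQ : E ≤ Q) (hEM : ∀ x ∈ E, ∀ w ∈ M, Commute x w) {u : G} (hu : u ∈ E)
    (hf : ∀ k ∈ B, dg k u ∈ M) {c d e : G} (hc : c ∈ A) (hd : d ∈ A) (he : e ∈ A) :
    ∃ w ∈ disp A B M u, dg e (dg c (dg d u)) = dg e w := by
  refine h.mem_disp hMc hMQ hB hcard hEQ hEM hu hf (dg_mem c (dg_mem d hu)) (fun k hk hkM => ?_) he
  exact (commute_dg_dg (Fusion.commute_of_isMulCommutative h.comm (hB hk).1 hc)
    (Fusion.commute_of_isMulCommutative h.comm (hB hk).1 hd)
    (hEM _ (dg_mem d hu) _ hkM.1) (hEM _ (dg_mem c (dg_mem d hu)) _ (dg_mem d hkM.1))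
    (hquad _ hkM c hc d hd)).symm

theorem commutator_dg_right {c u v : G} :
    c * ⁅u, v⁆ * c⁻¹ = ⁅u * dg c u, v * dg c v⁆ := by
  simp only [dg, commutatorElement_def]; group

/-- The elements obtained by `i` differences under `A` from elements of `C`. -/
def level (A C : Subgroup G) : ℕ → Set G
  | 0 => C
  | i + 1 => {x | ∃ c ∈ A, ∃ v ∈ level A C i, x = dg c v}

omit [Finite G] in
theorem level_subset (A C : Subgroup G) [C.Normal] : ∀ i, level A C i ⊆ C
  | 0 => fun _ h => h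
  | i + 1 => by rintro _ ⟨c, -, v, hv, rfl⟩; exact dg_mem c (level_subset A C i hv)

omit [Finite G] in
theorem dg_iterate_mem_level {A C : Subgroup G} {g x : G} (hg : g ∈ A) (hx : x ∈ C) :
    ∀ i, (dg g)^[i] x ∈ level A C i
  | 0 => hx
  | i + 1 => ⟨g, hg, _, dg_iterate_mem_level hg hx i, Function.iterate_succ_apply' _ _ _⟩

/-- Iterated differences inside a `p`-group vanish. -/
theorem exists_level_le (hQ : IsPGroup p Q) (hA : IsPGroup p A) {C : Subgroup G} (hC : C ≤ Q) :
    ∃ n, ∀ x ∈ level A C n, x = 1 := by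
  set S := A ⊔ Q
  have hS : IsPGroup p S := IsPGroup.to_sup_of_normal_right hA hQ
  have := hS.isNilpotent
  obtain ⟨n, hn⟩ := Subgroup.nilpotent_iff_lowerCentralSeries.mp this
  have key : ∀ i, level A C i ⊆ ((⊤ : Subgroup S).lowerCentralSeries i).map S.subtype := by
    intro i
    induction i with
    | zero => exact fun x hx => ⟨⟨x, mem_sup_right (hC hx)⟩, mem_top _, rfl⟩
    | succ i ih =>
      rintro _ ⟨c, hc, v, hv, rfl⟩
      obtain ⟨v', hv', rfl⟩ := ih hv
      refine ⟨⁅v'⁻¹, ⟨c, mem_sup_left hc⟩⁆, ?_, ?_⟩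
      · rw [Subgroup.lowerCentralSeries_succ]
        exact commutator_mem_commutator (inv_mem hv') (mem_top _)
      · rw [dg_eq, map_commutatorElement, map_inv]
        rfl
  refine ⟨n, fun x hx => ?_⟩
  have h1 := key n hx
  rw [hn, Subgroup.map_bot] at h1
  exact mem_bot.mp h1

/-- An element commuting with the centraliser and with its pairwise commuting differences is
centralised by `A`. -/
theorem Pick.diff_inner (h : Pick Q Z A) (hQ : IsPGroup p Q) (hA : IsPGroup p A) {v : G}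
    (hv : v ∈ Q) (hL : ∀ c ∈ A, ∀ d ∈ A, Commute (dg c v) (dg d v))
    (hvL : ∀ c ∈ A, Commute v (dg c v)) (hKI : ∀ k ∈ fixer A v, Commute v k) :
    ∀ d ∈ A, dg d v = 1 := by
  have hmem := h.mem_star hv hL hv hKI hvL
  intro d hd
  -- every difference is a difference of an element of `diffs`
  have hn : diffs A v ≤ closure {x | ∃ e ∈ A, ∃ l ∈ diffs A v, x = dg e l} := by
    refine (closure_le _).mpr ?_
    rintro _ ⟨e, he, rfl⟩
    have hnorm : diffs A v ≤ normalizer (fixer A v : Set G) := by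
      refine (le_centralizer_iff.mp (inf_le_right : fixer A v ≤ _)).trans (centralizer_le_normalizer _)
    rw [← SetLike.mem_coe, coe_mul_of_right_le_normalizer_left _ _ hnorm] at hmem
    obtain ⟨k, hk, l, hl, hkl⟩ := hmem
    have hek : dg e k = 1 := dg_eq_one.mpr (Fusion.commute_of_isMulCommutative h.comm he hk.1)
    refine subset_closure ⟨e, he, l, hl, ?_⟩
    conv_lhs => rw [← show k * l = v from hkl]
    rw [dg_mul_right (by rw [hek]; exact Commute.one_left l), hek, one_mul]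
  set S := A ⊔ Q
  have hS : IsPGroup p S := IsPGroup.to_sup_of_normal_right hA hQ
  have := hS.isNilpotent
  have hLS : diffs A v ≤ S := (diffs_le hv).trans le_sup_right
  have hall : ∀ i, diffs A v ≤ ((⊤ : Subgroup S).lowerCentralSeries i).map S.subtype := by
    intro i
    induction i with
    | zero =>
      intro x hx
      exact ⟨⟨x, hLS hx⟩, mem_top _, rfl⟩
    | succ i ih =>
      refine hn.trans ((closure_le _).mpr ?_)
      rintro _ ⟨e, he, l, hl, rfl⟩
      obtain ⟨l', hl', rfl⟩ := ih hl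
      refine ⟨⁅l'⁻¹, ⟨e, mem_sup_left he⟩⁆, ?_, ?_⟩
      · rw [Subgroup.lowerCentralSeries_succ]
        exact commutator_mem_commutator (inv_mem hl') (mem_top _)
      · rw [dg_eq, map_commutatorElement, map_inv]
        rfl
  obtain ⟨n, hn⟩ := Subgroup.nilpotent_iff_lowerCentralSeries.mp this
  have h1 := hall n (dg_mem_diffs hd v)
  rw [hn, Subgroup.map_bot, mem_bot] at h1
  exact h1

/-- An element centralised by `A ⊓ Q` with pairwise commuting differences has trivial differences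
of second order, and trivial differences of first order if it commutes with them. -/
theorem Pick.diff_central (h : Pick Q Z A) (hQ : IsPGroup p Q) (hA : IsPGroup p A) {v : G}
    (hv : v ∈ Q) (hL : ∀ c ∈ A, ∀ d ∈ A, Commute (dg c v) (dg d v))
    (hvL : ∀ c ∈ A, Commute v (dg c v)) (hI : ∀ i ∈ A ⊓ Q, Commute v i) :
    ∀ c ∈ A, ∀ d ∈ A, dg c (dg d v) = 1 := by
  have hIK : A ⊓ Q ≤ fixer A v := fun i hi => mem_inf.mpr ⟨hi.1, by
    have hle : diffs A v ≤ centralizer ({i} : Set G) := by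
      refine (closure_le _).mpr ?_
      rintro _ ⟨c, hc, rfl⟩
      refine mem_centralizer_singleton_iff.mpr ?_
      have hic : Commute i c := Fusion.commute_of_isMulCommutative h.comm hi.1 hc
      have hiv : Commute i v := (hI i hi).symm
      exact (hiv.inv_right.mul_right ((hic.mul_right hiv).mul_right hic.inv_right)).symm.eq
    exact mem_centralizer_iff.mpr fun w hw => mem_centralizer_singleton_iff.mp (hle hw)⟩
  by_cases hK : fixer A v ≤ Q
  · intro c hc d hd
    rw [h.diff_inner hQ hA hv hL hvL (fun k hk => hI k (mem_inf.mpr ⟨hk.1, hK hk⟩)) d hd, dg_one]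
  · have hcov := (h.cover hv hL hK).trans (sup_le le_rfl hIK)
    intro c hc d hd
    exact dg_eq_one.mpr (mem_centralizer_iff.mp (hcov hc).2 _ (dg_mem_diffs hd v)).symm

/-- If `A` is quadratic on the centre `Z` of the class-two subgroup `C`, five differences send `C`
into `Z`. -/
theorem Pick.five_steps (h : Pick Q Z A) [Z.Normal] {C : Subgroup G} [C.Normal]
    (hQ : IsPGroup p Q) (hA : IsPGroup p A) (hCQ : C ≤ Q) (hQC : ∀ q ∈ Q, ∀ x ∈ C, dg q x ∈ Z)
    (hCC : ⁅C, C⁆ ≤ Z) (hZcen : ∀ x ∈ C, ∀ z ∈ Z, Commute x z) (hZC : Z ≤ C)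
    (hquad : ∀ z ∈ Z, ∀ c ∈ A, ∀ d ∈ A, dg c (dg d z) = 1) :
    ∀ x ∈ level A C 5, x ∈ Z := by
  classical
  have hex : ∃ n, ∀ x ∈ level A C n, x ∈ Z := by
    obtain ⟨n, hn⟩ := exists_level_le hQ hA hCQ
    exact ⟨n, fun x hx => (hn x hx).symm ▸ one_mem Z⟩
  set n := Nat.find hex with hn
  have hnZ : ∀ k, n ≤ k → ∀ x ∈ level A C k, x ∈ Z := by
    intro k hk
    induction k, hk using Nat.le_induction with
    | base => exact Nat.find_spec hex
    | succ k _ ih => rintro _ ⟨c, -, v, hv, rfl⟩; exact dg_mem c (ih v hv)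
  suffices n ≤ 5 from hnZ 5 this
  by_contra hlt
  push Not at hlt
  have hsub := fun i => level_subset A C i
  have hcZ : ∀ s ∈ C, ∀ t ∈ C, ⁅s, t⁆ ∈ Z := fun s hs t ht => hCC (commutator_mem_commutator hs ht)
  have hcA : ∀ z ∈ Z, ∀ c ∈ A, dg c z ∈ A := fun z hz c hc =>
    h.mem_self (mem_sup_left (hCQ (hZC (dg_mem c hz)))) fun y hy =>
      (dg_eq_one.mp (hquad z hz y hy c hc)).symm
  -- bilinearity
  have hexp : ∀ c ∈ A, ∀ u ∈ C, ∀ w ∈ C,
      ⁅u, dg c w⁆ = ⁅dg c u, w⁆⁻¹ * dg c ⁅u, w⁆ * ⁅dg c u, dg c w⁆⁻¹ := by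
    intro c _ u hu w hw
    have hcc : ∀ s ∈ C, ∀ s' ∈ C, ∀ t ∈ C, Commute s ⁅s', t⁆ := fun s hs s' hs' t ht =>
      hZcen s hs _ (hcZ s' hs' t ht)
    have e1 : ∀ s ∈ C, ∀ s' ∈ C, ∀ t ∈ C, ⁅s * s', t⁆ = ⁅s', t⁆ * ⁅s, t⁆ := by
      intro s hs s' hs' t ht
      calc ⁅s * s', t⁆ = s * ⁅s', t⁆ * s⁻¹ * ⁅s, t⁆ := by simp only [commutatorElement_def]; group
        _ = _ := by rw [(hcc s hs s' hs' t ht).eq, mul_inv_cancel_right]
    have e2 : ∀ s ∈ C, ∀ t ∈ C, ∀ t' ∈ C, ⁅s, t * t'⁆ = ⁅s, t⁆ * ⁅s, t'⁆ := by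
      intro s hs t ht t' ht'
      calc ⁅s, t * t'⁆ = ⁅s, t⁆ * (t * ⁅s, t'⁆ * t⁻¹) := by simp only [commutatorElement_def]; group
        _ = _ := by rw [(hcc t ht s hs t' ht').eq, mul_inv_cancel_right]
    have hDu : dg c u ∈ C := dg_mem c hu
    have hDw : dg c w ∈ C := dg_mem c hw
    have e3 : dg c ⁅u, w⁆ = ⁅u, w⁆⁻¹ * ⁅u * dg c u, w * dg c w⁆ := by
      rw [← commutator_dg_right]; rfl
    have hzc : ∀ {s t : G}, s ∈ Z → t ∈ Z → Commute s t := fun hs ht => hZcen _ (hZC hs) _ ht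
    rw [e3, e1 _ hu _ hDu _ (mul_mem hw hDw), e2 _ hu _ hw _ hDw, e2 _ hDu _ hw _ hDw]
    have k1 := hcZ _ hDu _ hw
    have k2 := hcZ _ hDu _ hDw
    have k3 := hcZ _ hu _ hw
    have k4 := hcZ _ hu _ hDw
    generalize ⁅dg c u, w⁆ = a, ⁅dg c u, dg c w⁆ = b, ⁅u, w⁆ = s, ⁅u, dg c w⁆ = t at k1 k2 k3 k4 ⊢
    calc t = a⁻¹ * (s⁻¹ * s) * a * (b * t * b⁻¹) := by rw [(hzc k2 k4).eq]; group
      _ = a⁻¹ * s⁻¹ * (s * a * b) * t * b⁻¹ := by group
      _ = a⁻¹ * s⁻¹ * (a * b * s) * t * b⁻¹ := by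
          rw [mul_assoc s a b, ((hzc k3 (mul_mem k1 k2))).eq]
      _ = a⁻¹ * (s⁻¹ * (a * b * (s * t))) * b⁻¹ := by group
  have claim1 : ∀ k i j, n ≤ i + j → 2 * n ≤ i + j + k →
      ∀ u ∈ level A C i, ∀ w ∈ level A C j, ⁅u, w⁆ ∈ A := by
    intro k
    induction k with
    | zero =>
      intro i j _ hk u hu w hw
      rw [commutatorElement_eq_one_iff_mul_comm.mpr]
      · exact one_mem A
      · rcases Nat.lt_or_ge i n with hi | hi
        · exact (hZcen u (hsub i hu) w (hnZ j (by omega) w hw)).eq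
        · exact (hZcen w (hsub j hw) u (hnZ i hi u hu)).symm.eq
    | succ k ihk =>
      intro i j
      induction j generalizing i with
      | zero =>
        intro hi _ u hu w hw
        rw [commutatorElement_eq_one_iff_mul_comm.mpr
          (hZcen w (hsub 0 hw) u (hnZ i (by omega) u hu)).symm.eq]
        exact one_mem A
      | succ j ihj =>
        intro h1 h2 u hu w hw
        obtain ⟨c, hc, w, hw', rfl⟩ := hw
        rw [hexp c hc u (hsub i hu) w (hsub j hw')]
        exact mul_mem (mul_mem (inv_mem (ihj (i + 1) (by omega) (by omega) _ ⟨c, hc, u, hu, rfl⟩ w hw'))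
          (hcA _ (hcZ u (hsub i hu) w (hsub j hw')) c hc))
          (inv_mem (ihk (i + 1) (j + 1) (by omega) (by omega) _ ⟨c, hc, u, hu, rfl⟩ _ ⟨c, hc, w, hw', rfl⟩))
  have claim2 : ∀ k i j, n + 1 ≤ i + j → 2 * n ≤ i + j + k →
      ∀ u ∈ level A C i, ∀ w ∈ level A C j, Commute u w := by
    intro k
    induction k with
    | zero =>
      intro i j _ hk u hu w hw
      rcases Nat.lt_or_ge i n with hi | hi
      · exact hZcen u (hsub i hu) w (hnZ j (by omega) w hw)
      · exact (hZcen w (hsub j hw) u (hnZ i hi u hu)).symm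
    | succ k ihk =>
      intro i j
      induction j generalizing i with
      | zero => exact fun hi _ u hu w hw => (hZcen w (hsub 0 hw) u (hnZ i (by omega) u hu)).symm
      | succ j ihj =>
        intro h1 h2 u hu w hw
        obtain ⟨c, hc, w, hw', rfl⟩ := hw
        refine commutatorElement_eq_one_iff_mul_comm.mp ?_
        rw [hexp c hc u (hsub i hu) w (hsub j hw'),
          commutatorElement_eq_one_iff_mul_comm.mpr
            (ihj (i + 1) (by omega) (by omega) _ ⟨c, hc, u, hu, rfl⟩ w hw').eq,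
          commutatorElement_eq_one_iff_mul_comm.mpr
            (ihk (i + 1) (j + 1) (by omega) (by omega) _ ⟨c, hc, u, hu, rfl⟩ _ ⟨c, hc, w, hw', rfl⟩).eq,
          dg_eq_one.mpr (Fusion.commute_of_isMulCommutative h.comm hc
            (claim1 (2 * n) i j (by omega) (by omega) u hu w hw'))]
        simp
  refine Nat.find_min hex (m := n - 1) (by omega) ?_
  intro x hx
  obtain ⟨m, hm⟩ : ∃ m, n = m + 4 := ⟨n - 4, by omega⟩
  rw [hm, show m + 4 - 1 = m + 1 + 1 + 1 by omega] at hx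
  obtain ⟨c, hc, v₁, ⟨d, hd, v, hv, rfl⟩, rfl⟩ := hx
  have hI : ∀ i ∈ A ⊓ Q, Commute v i := by
    intro i hi
    obtain ⟨a, ha, v', hv', rfl⟩ := hv
    obtain ⟨j, rfl⟩ : ∃ j, m = j + 1 := ⟨m - 1, by omega⟩
    obtain ⟨b, hb, v'', hv'', rfl⟩ := hv'
    have hz := hQC i hi.2 v'' (hsub _ hv'')
    exact (commute_dg_dg (Fusion.commute_of_isMulCommutative h.comm hi.1 ha)
      (Fusion.commute_of_isMulCommutative h.comm hi.1 hb)
      (hZcen _ (dg_mem b (hsub _ hv'')) _ hz)
      (hZcen _ (dg_mem a (dg_mem b (hsub _ hv''))) _ (dg_mem b hz))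
      (hquad _ hz a ha b hb)).symm
  rw [h.diff_central hQ hA (hCQ (hsub _ hv))
    (fun e he f hf => claim2 (2 * n) (m + 1 + 1) (m + 1 + 1) (by omega) (by omega) _
      ⟨e, he, v, hv, rfl⟩ _ ⟨f, hf, v, hv, rfl⟩)
    (fun e he => claim2 (2 * n) (m + 1) (m + 1 + 1) (by omega) (by omega) v hv _ ⟨e, he, v, hv, rfl⟩)
    hI c hc d hd]
  exact one_mem Z

end Cfsg.Agent.ThompsonSeven
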