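import Cfsg.Agent.ThompsonSeven.Degree
import Cfsg.Agent.KInf.Main

/-!
# An element of small degree when the Thompson subgroup is not normal
-/

set_option autoImplicit false
set_option maxHeartbeats 1000000

namespace Cfsg.Agent.ThompsonSeven

open Subgroup KInf
open scoped commutatorElement Pointwise

universe u

variable {G : Type u} [Group G] [Finite G] {p : ℕ} [hp : Fact p.Prime]

theorem dg_mem_of_chief {Q U V : Subgroup G} [Q.Normal] (hQ : IsPGroup p Q) (hU : U ≤ Q)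
    (hch : Cfsg.IsChiefFactor U V) {k u : G} (hk : k ∈ Q) (hu : u ∈ U) : dg k u ∈ V := by
  have := hch.2.2.1
  have h1 := le_centralizer_of_chief hQ hU hch (mem_map_of_mem _ hk)
  refine (QuotientGroup.eq_one_iff _).mp (show QuotientGroup.mk' V (dg k u) = 1 from ?_)
  rw [map_dg]
  exact dg_eq_one.mpr (mem_centralizer_iff.mp h1 _ (mem_map_of_mem _ hu)).symm

variable {Q Z A : Subgroup G} [Q.Normal] [Z.Normal]

/-- When `A` is not quadratic on `Z`, some `g ∈ A \ Q` has degree three on `Z` and `A` has degree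
three modulo `Z` on the elements centralising `Z` whose displacements by `Q` lie in `Z`. -/
theorem Pick.cubic (h : Pick Q Z A) (hQ : IsPGroup p Q) (hA : IsPGroup p A)
    (hZc : IsMulCommutative Z) (hZQ : Z ≤ Q)
    (hbad : ∃ z ∈ Z, ∃ c ∈ A, ∃ d ∈ A, dg c (dg d z) ≠ 1) :
    ∃ g ∈ A, g ∉ Q ∧ Good g 3 Z ∧
      ∀ E : Subgroup G, E.Normal → E ≤ Q → (∀ x ∈ E, ∀ z ∈ Z, Commute x z) →
        (∀ k ∈ Q, ∀ x ∈ E, dg k x ∈ Z) → ∀ x ∈ E, (dg g)^[3] x ∈ Z := by
  classical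
  obtain ⟨N, ⟨hNn, hNZ, z, hz, c₀, hc₀, d₀, hd₀, hzne⟩, hNmin⟩ := Set.exists_min_image
    {N : Subgroup G | N.Normal ∧ N ≤ Z ∧ ∃ z ∈ N, ∃ c ∈ A, ∃ d ∈ A, dg c (dg d z) ≠ 1}
    (fun N => Nat.card N) (Set.toFinite _)
    ⟨Z, inferInstance, le_rfl, hbad⟩
  have hN1 : N ≠ ⊥ := fun hh => hzne (by rw [hh, mem_bot] at hz; rw [hz, dg_one, dg_one])
  obtain ⟨M₀, hM₀n, hlt, hch₀⟩ := Control.exists_chief_below hN1
  have hM₀quad : ∀ w ∈ M₀, ∀ c ∈ A, ∀ d ∈ A, dg c (dg d w) = 1 := by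
    intro w hw c hc d hd
    by_contra hne
    exact (Core.card_lt_of_lt hlt).not_ge
      (hNmin M₀ ⟨hM₀n, hlt.le.trans hNZ, w, hw, c, hc, d, hd, hne⟩)
  have hNc : IsMulCommutative N := Fusion.isMulCommutative_of_forall fun x hx y hy =>
    Fusion.commute_of_isMulCommutative hZc (hNZ hx) (hNZ hy)
  have hNQ : N ≤ Q := hNZ.trans hZQ
  have hZcm : ∀ {x y : G}, x ∈ Z → y ∈ Z → Commute x y := fun hx hy =>
    Fusion.commute_of_isMulCommutative hZc hx hy
  have hAc : ∀ {x y : G}, x ∈ A → y ∈ A → Commute x y := fun hx hy =>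
    Fusion.commute_of_isMulCommutative h.comm hx hy
  have hLZ : ∀ {u : G}, u ∈ Z → ∀ c ∈ A, ∀ d ∈ A, Commute (dg c u) (dg d u) := fun hu c _ d _ =>
    hZcm (dg_mem c hu) (dg_mem d hu)
  -- bad elements of `N`
  have hfx : ∀ u ∈ N, (∃ c ∈ A, ∃ d ∈ A, dg c (dg d u) ≠ 1) → fixer A u ≤ A ⊓ Q := by
    rintro u hu ⟨c, hc, d, hd, hne⟩
    refine le_inf inf_le_left (by_contra fun hK => hne ?_)
    exact h.quad hZc hZQ (hNZ hu) hK c hc d hd
  have hmember : ∀ u ∈ N, Nat.card A * Nat.card ↥(N ⊓ A) ≤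
      Nat.card (fixer A u) * Nat.card ↥(N ⊓ centralizer (fixer A u : Set G)) := by
    intro u hu
    have h1 := h.card_diffs (hLZ (hNZ hu))
    have hL : diffs A u ≤ N := diffs_le hu
    have hLC : diffs A u ≤ N ⊓ centralizer (fixer A u : Set G) :=
      le_inf hL (le_centralizer_iff.mp inf_le_right)
    have hAC : N ⊓ A ≤ N ⊓ centralizer (fixer A u : Set G) := fun x hx =>
      mem_inf.mpr ⟨hx.1, mem_centralizer_iff.mpr fun k hk => (hAc hk.1 hx.2).eq⟩
    have h2 := CentLarge.card_mul_le_of_le hLC hAC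
    rw [show diffs A u ⊓ (N ⊓ A) = diffs A u ⊓ A from
      by rw [← inf_assoc, inf_eq_left.mpr hL]] at h2
    refine Nat.le_of_mul_le_mul_right (c := Nat.card ↥(diffs A u ⊓ A)) ?_ Nat.card_pos
    calc Nat.card A * Nat.card ↥(N ⊓ A) * Nat.card ↥(diffs A u ⊓ A)
        = Nat.card A * Nat.card ↥(diffs A u ⊓ A) * Nat.card ↥(N ⊓ A) := by ring
      _ ≤ Nat.card (fixer A u) * Nat.card (diffs A u) * Nat.card ↥(N ⊓ A) :=
          Nat.mul_le_mul_right _ h1
      _ = Nat.card (fixer A u) * (Nat.card (diffs A u) * Nat.card ↥(N ⊓ A)) := by ring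
      _ ≤ Nat.card (fixer A u) *
          (Nat.card ↥(N ⊓ centralizer (fixer A u : Set G)) * Nat.card ↥(diffs A u ⊓ A)) :=
          Nat.mul_le_mul_left _ h2
      _ = _ := by ring
  obtain ⟨B, ⟨hBI, hBcard⟩, hBmax⟩ := Set.exists_max_image
    {B : Subgroup G | B ≤ A ⊓ Q ∧
      Nat.card A * Nat.card ↥(N ⊓ A) ≤ Nat.card B * Nat.card ↥(N ⊓ centralizer (B : Set G))}
    (fun B => Nat.card B) (Set.toFinite _)
    ⟨fixer A z, hfx z hz ⟨c₀, hc₀, d₀, hd₀, hzne⟩, hmember z hz⟩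
  set NB := N ⊓ centralizer (B : Set G) with hNB
  have hNBA : ∀ c ∈ A, ∀ x ∈ NB, c * x * c⁻¹ ∈ NB := fun c hc x hx => by
    refine mem_inf.mpr ⟨hNn.conj_mem x hx.1 c, mem_centralizer_iff.mpr fun k hk => ?_⟩
    have h1 : Commute k c := hAc (hBI hk).1 hc
    exact ((h1.mul_right (mem_centralizer_iff.mp hx.2 k hk)).mul_right h1.inv_right).eq
  -- quadratic on `NB`
  have hNBquad : ∀ w ∈ NB, ∀ c ∈ A, ∀ d ∈ A, dg c (dg d w) = 1 := by
    intro w hw c hc d hd
    by_contra hne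
    have hK := hfx w hw.1 ⟨c, hc, d, hd, hne⟩
    have hBK : B ≤ fixer A w := fun k hk => mem_inf.mpr ⟨(hBI hk).1, by
      have hle : diffs A w ≤ centralizer ({k} : Set G) := by
        refine (closure_le _).mpr ?_
        rintro _ ⟨e, he, rfl⟩
        refine mem_centralizer_singleton_iff.mpr ?_
        exact (mem_centralizer_iff.mp (mul_mem (inv_mem hw.2) (hNBA e he w hw).2) k hk).symm
      exact mem_centralizer_iff.mpr fun x hx => mem_centralizer_singleton_iff.mp (hle hx)⟩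
    have hKB : fixer A w = B :=
      (eq_of_le_of_card_ge hBK (hBmax _ ⟨hK, hmember w hw.1⟩)).symm
    refine hne ?_
    rw [h.diff_inner hQ hA (hNQ hw.1) (hLZ (hNZ hw.1))
      (fun e _ => hZcm (hNZ hw.1) (hNZ (dg_mem e hw.1))) (fun k hk => ?_) d hd, dg_one]
    rw [hKB] at hk
    exact (mem_centralizer_iff.mp hw.2 k hk).symm
  -- the centraliser of `B` in `Z`
  set ZB := Z ⊓ centralizer (B : Set G) with hZB
  have hsupc : ∀ {S T : Subgroup G}, IsMulCommutative S → IsMulCommutative T →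
      (∀ s ∈ S, ∀ t ∈ T, Commute s t) → IsMulCommutative ↥(S ⊔ T) := by
    intro S T hS hT hST
    rw [sup_eq_closure]
    refine isMulCommutative_closure ?_
    rintro s (hs | hs) t (ht | ht)
    · exact (Fusion.commute_of_isMulCommutative hS hs ht).eq
    · exact (hST s hs t ht).eq
    · exact (hST t ht s hs).symm.eq
    · exact (Fusion.commute_of_isMulCommutative hT hs ht).eq
  have hNZA : Nat.card A * Nat.card ↥(Z ⊓ A) ≤ Nat.card B * Nat.card ↥(NB ⊔ (Z ⊓ A)) := by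
    have h1 := CentLarge.card_mul_le_of_le (le_sup_left : NB ≤ NB ⊔ (Z ⊓ A))
      (le_sup_right : Z ⊓ A ≤ NB ⊔ (Z ⊓ A))
    have h2 : Nat.card ↥(NB ⊓ (Z ⊓ A)) ≤ Nat.card ↥(N ⊓ A) := Nat.le_of_dvd Nat.card_pos
      (card_dvd_of_le fun x hx => mem_inf.mpr ⟨hx.1.1, hx.2.2⟩)
    refine Nat.le_of_mul_le_mul_right (c := Nat.card ↥(N ⊓ A)) ?_ Nat.card_pos
    calc Nat.card A * Nat.card ↥(Z ⊓ A) * Nat.card ↥(N ⊓ A)
        = Nat.card A * Nat.card ↥(N ⊓ A) * Nat.card ↥(Z ⊓ A) := by ring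
      _ ≤ Nat.card B * Nat.card NB * Nat.card ↥(Z ⊓ A) := Nat.mul_le_mul_right _ hBcard
      _ = Nat.card B * (Nat.card NB * Nat.card ↥(Z ⊓ A)) := by ring
      _ ≤ Nat.card B * (Nat.card ↥(NB ⊔ (Z ⊓ A)) * Nat.card ↥(N ⊓ A)) :=
          Nat.mul_le_mul_left _ (h1.trans (Nat.mul_le_mul_left _ h2))
      _ = _ := by ring
  have hleZB : NB ⊔ (Z ⊓ A) ≤ ZB := sup_le (le_inf (inf_le_left.trans hNZ) inf_le_right)
    (fun x hx => mem_inf.mpr ⟨hx.1, mem_centralizer_iff.mpr fun k hk => (hAc (hBI hk).1 hx.2).eq⟩)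
  have hZBeq : ZB = NB ⊔ (Z ⊓ A) := by
    refine (eq_of_le_of_card_ge hleZB ?_).symm
    have hBc : IsMulCommutative B := Fusion.isMulCommutative_of_forall fun x hx y hy =>
      hAc (hBI hx).1 (hBI hy).1
    have hZBc : IsMulCommutative ZB := Fusion.isMulCommutative_of_forall fun x hx y hy =>
      hZcm hx.1 hy.1
    have h1 := h.bound (B ⊔ ZB) (sup_le ((hBI.trans inf_le_left).trans le_sup_right)
      ((inf_le_left.trans hZQ).trans le_sup_left))
      (hsupc hBc hZBc fun k hk x hx => mem_centralizer_iff.mp hx.2 k hk)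
    have h2 := CentLarge.card_mul_le_of_le (le_sup_left : B ≤ B ⊔ ZB) (le_sup_right : ZB ≤ B ⊔ ZB)
    have h3 : Nat.card ↥(B ⊓ ZB) ≤ Nat.card ↥(Z ⊓ A) := Nat.le_of_dvd Nat.card_pos
      (card_dvd_of_le fun x hx => mem_inf.mpr ⟨hx.2.1, (hBI hx.1).1⟩)
    exact Nat.le_of_mul_le_mul_left ((h2.trans (Nat.mul_le_mul h1 h3)).trans hNZA) Nat.card_pos
  have hZBcard : Nat.card A * Nat.card ↥(Z ⊓ A) ≤ Nat.card B * Nat.card ZB := hZBeq ▸ hNZA
  have hZBquad : ∀ w ∈ ZB, ∀ c ∈ A, ∀ d ∈ A, dg c (dg d w) = 1 := by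
    intro w hw c hc d hd
    have hn : Z ⊓ A ≤ normalizer (NB : Set G) :=
      le_normalizer_iff.mpr fun x hx => hNBA x hx.2
    rw [hZBeq, ← SetLike.mem_coe, coe_mul_of_right_le_normalizer_left _ _ hn] at hw
    obtain ⟨x, hx, y, hy, rfl⟩ := hw
    have hdy : dg d y = 1 := dg_eq_one.mpr (hAc hd hy.2)
    rw [dg_mul_right (hZcm (dg_mem d (hNZ hx.1)) hy.1), hdy, mul_one]
    exact hNBquad x hx c hc d hd
  -- products in `Z`
  have hmulZ : ∀ (c : G) {x y : G}, x ∈ Z → y ∈ Z → dg c (x * y) = dg c x * dg c y :=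
    fun c _ _ hx hy => dg_mul_right (hZcm (dg_mem c hx) hy)
  have hclosed : ∀ (c : G) (V : Subgroup G) (S : Set G), S ⊆ Z → (∀ s ∈ S, dg c s ∈ V) →
      ∀ x ∈ closure S, dg c x ∈ V := by
    intro c V S hS hSV x hx
    suffices x ∈ Z ∧ dg c x ∈ V from this.2
    induction hx using closure_induction with
    | mem s hs => exact ⟨hS hs, hSV s hs⟩
    | one => exact ⟨one_mem Z, (dg_one c).symm ▸ one_mem V⟩
    | mul a b _ _ h1 h2 =>
      exact ⟨mul_mem h1.1 h2.1, (hmulZ c h1.1 h2.1).symm ▸ mul_mem h1.2 h2.2⟩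
    | inv a _ h1 =>
      refine ⟨inv_mem h1.1, ?_⟩
      have h2 := hmulZ c (inv_mem h1.1) h1.1
      rw [inv_mul_cancel, dg_one] at h2
      rw [eq_inv_of_mul_eq_one_left h2.symm]
      exact inv_mem h1.2
  -- the element `g`
  obtain ⟨g, hgA, hgQ, hgN⟩ : ∃ g ∈ A, g ∉ Q ∧ ∀ u ∈ N, (dg g)^[3] u ∈ M₀ := by
    by_cases hy : ∀ u ∈ N, ∀ a ∈ A, ∀ c ∈ A, ∀ d ∈ A, dg c (dg d (dg a u)) = 1
    · obtain ⟨g, hg, hgQ⟩ := SetLike.not_le_iff_exists.mp h.not_le
      exact ⟨g, hg, hgQ, fun u hu => by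
        change dg g (dg g (dg g u)) ∈ M₀
        rw [hy u hu g hg g hg g hg]
        exact one_mem M₀⟩
    push Not at hy
    obtain ⟨u₀, hu₀, a, ha, c₁, hc₁, d₁, hd₁, hyne⟩ := hy
    set y := dg a u₀ with hydef
    have hyN : y ∈ N := dg_mem a hu₀
    have hfu : ∀ u ∈ N, ∀ i ∈ A ⊓ Q, dg i u ∈ M₀ := fun u hu i hi =>
      dg_mem_of_chief hQ hNQ hch₀ hi.2 hu
    have hKy : fixer A y = A ⊓ Q := by
      refine le_antisymm (hfx y hyN ⟨c₁, hc₁, d₁, hd₁, hyne⟩) fun i hi => mem_inf.mpr ⟨hi.1, ?_⟩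
      have hle : diffs A y ≤ centralizer ({i} : Set G) := by
        refine (closure_le _).mpr ?_
        rintro _ ⟨c, hc, rfl⟩
        refine mem_centralizer_singleton_iff.mpr (Commute.symm ?_).eq
        have hwM := hfu u₀ hu₀ i hi
        exact commute_dg_dg (hAc hi.1 hc) (hAc hi.1 ha)
          (hZcm (hNZ hyN) (hNZ (hlt.le hwM))) (hZcm (hNZ (dg_mem c hyN)) (hNZ (dg_mem a (hlt.le hwM))))
          (hM₀quad _ hwM c hc a ha)
      exact mem_centralizer_iff.mpr fun x hx => mem_centralizer_singleton_iff.mp (hle hx)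
    have hBeq : B = A ⊓ Q := by
      refine eq_of_le_of_card_ge hBI ?_
      rw [← hKy]
      exact hBmax _ ⟨hKy.le, hmember y hyN⟩
    have hLN : diffs A y ≤ N := diffs_le hyN
    have hLNB : ∀ x ∈ diffs A y, x ∈ NB := fun x hx =>
      mem_inf.mpr ⟨hLN hx, mem_centralizer_iff.mpr fun k hk =>
        (mem_centralizer_iff.mp (show k ∈ fixer A y from hKy ▸ hBeq ▸ hk).2 x hx).symm⟩
    -- differences commute on `N`
    have hswap : ∀ c ∈ A, ∀ d ∈ A, ∀ x ∈ N, dg c (dg d x) = dg d (dg c x) := fun c hc d hd x hx =>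
      dg_comm (hAc hc hd) (hZcm (hNZ (dg_mem c hx)) (hNZ (dg_mem d hx)))
    -- every element of `NB` has the differences of some `dg c y`
    have hrep : ∀ x ∈ NB, ∃ c ∈ A, ∀ d ∈ A, dg d x = dg d (dg c y) := by
      intro x hx
      have hmem : x ∈ fixer A y ⊔ diffs A y := by
        refine h.mem_star (hNQ hyN) (hLZ (hNZ hyN)) (hNQ hx.1) (fun k hk => ?_)
          fun c _ => hZcm (hNZ hx.1) (hNZ (dg_mem c hyN))
        rw [hKy, ← hBeq] at hk
        exact (mem_centralizer_iff.mp hx.2 k hk).symm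
      have hn : diffs A y ≤ normalizer (fixer A y : Set G) :=
        (le_centralizer_iff.mp (inf_le_right : fixer A y ≤ _)).trans (centralizer_le_normalizer _)
      rw [← SetLike.mem_coe, coe_mul_of_right_le_normalizer_left _ _ hn] at hmem
      obtain ⟨k, hk, l, hl, rfl⟩ := hmem
      obtain ⟨c, hc, hcl⟩ : ∃ c ∈ A, ∀ d ∈ A, dg d l = dg d (dg c y) := by
        clear hx
        induction hl using closure_induction with
        | mem s hs => obtain ⟨c, hc, rfl⟩ := hs; exact ⟨c, hc, fun d _ => rfl⟩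
        | one => exact ⟨1, one_mem A, fun d _ => by rw [show dg (1 : G) y = 1 by simp [dg]]⟩
        | mul s t hs ht h1 h2 =>
          obtain ⟨c, hc, hcs⟩ := h1
          obtain ⟨c', hc', hct⟩ := h2
          refine ⟨c * c', mul_mem hc hc', fun d hd => ?_⟩
          have hq := hNBquad _ (hLNB _ (dg_mem_diffs hc' y))
          have hsL : dg c y ∈ N := dg_mem c hyN
          have htL : dg c' y ∈ N := dg_mem c' hyN
          rw [hmulZ d (hNZ (hLN hs)) (hNZ (hLN ht)), hcs d hd, hct d hd, dg_mul,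
            ← mul_dg c (dg c' y), hmulZ d (hNZ hsL) (mul_mem (hNZ htL) (hNZ (dg_mem c htL))),
            hmulZ d (hNZ htL) (hNZ (dg_mem c htL)), hq d hd c hc, mul_one]
        | inv s hs h1 =>
          obtain ⟨c, hc, hcs⟩ := h1
          refine ⟨c⁻¹, inv_mem hc, fun d hd => ?_⟩
          have hq := hNBquad _ (hLNB _ (dg_mem_diffs (inv_mem hc) y))
          have hsZ := hNZ (hLN hs)
          have htL : dg c⁻¹ y ∈ N := dg_mem c⁻¹ hyN
          have e1 := dg_mul c c⁻¹ y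
          rw [mul_inv_cancel, show dg (1 : G) y = 1 by simp [dg], ← mul_dg c (dg c⁻¹ y)] at e1
          have e2 := congrArg (dg d) e1
          rw [dg_one, hmulZ d (hNZ (dg_mem c hyN)) (mul_mem (hNZ htL) (hNZ (dg_mem c htL))),
            hmulZ d (hNZ htL) (hNZ (dg_mem c htL)), hq d hd c hc, mul_one] at e2
          have e3 := hmulZ d (inv_mem hsZ) hsZ
          rw [inv_mul_cancel, dg_one, hcs d hd] at e3
          rw [eq_inv_of_mul_eq_one_left e3.symm, eq_comm]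
          exact eq_inv_of_mul_eq_one_right e2.symm
      refine ⟨c, hc, fun d hd => ?_⟩
      have hdk : dg d k = 1 := dg_eq_one.mpr (hAc hd hk.1)
      rw [dg_mul_right (by rw [hdk]; exact Commute.one_left l), hdk, one_mul]
      exact hcl d hd
    by_cases hex : ∃ c ∈ A, c ∉ Q ∧ ∀ d ∈ A, dg d (dg c y) ∈ M₀
    · obtain ⟨g, hg, hgQ, hgd⟩ := hex
      refine ⟨g, hg, hgQ, fun u hu => ?_⟩
      change dg g (dg g (dg g u)) ∈ M₀
      obtain ⟨w, hw, he⟩ := h.three_steps (M := N) (E := N) hNc hNQ hBI hBcard hNBquad hNQ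
        (fun x hx w hw => hZcm (hNZ hx) (hNZ hw)) hu (fun k hk => dg_mem k hu) hg hg hg
      rw [he]
      refine hclosed g M₀ _ ?_ ?_ w hw
      · refine Set.union_subset ?_ fun x hx => hNZ hx.1
        rintro _ ⟨c, -, k, -, rfl⟩
        exact hNZ (hNn.conj_mem _ (dg_mem k hu) c)
      · rintro s (⟨c, hc, k, hk, rfl⟩ | hs)
        · exact dg_mem g (hM₀n.conj_mem _ (hfu u hu k (hBI hk)) c)
        · obtain ⟨c, hc, hcs⟩ := hrep s hs
          rw [hcs g hg, hswap g hg c hc y hyN]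
          exact hgd c hc
    -- otherwise `y` is quadratic
    push Not at hex
    exfalso
    have hMBA : ∀ x ∈ M₀, x ∈ NB → ∀ d ∈ A, dg d x = 1 := by
      intro x hx hxB d hd
      obtain ⟨c, hc, hcx⟩ := hrep x hxB
      rw [hcx d hd]
      have hcQ : c ∈ Q := by
        by_contra hcQ
        obtain ⟨e, he, hne⟩ := hex c hc hcQ
        exact hne (hcx e he ▸ dg_mem e hx)
      rw [hswap d hd c hc y hyN, dg_eq_one]
      exact (mem_centralizer_iff.mp (show c ∈ fixer A y from hKy ▸ mem_inf.mpr ⟨hc, hcQ⟩).2 _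
        (dg_mem_diffs hd y)).symm
    refine hyne ?_
    obtain ⟨w, hw, hwe⟩ := h.mem_disp (M := N) (E := N) hNc hNQ hBI hBcard hNQ
      (fun x hx w hw => hZcm (hNZ hx) (hNZ hw)) hu₀ (fun k hk => dg_mem k hu₀)
      (x := y) hyN (fun k hk hkM => by
        refine (mul_inv_eq_iff_eq_mul.mp ?_ : Commute k y).symm
        rw [hydef, conj_dg (hAc (hBI hk).1 ha), ← mul_dg k u₀,
          dg_mul_right (hZcm (hNZ hyN) (hNZ hkM.1)),
          hMBA _ (hfu u₀ hu₀ k (hBI hk)) hkM a ha, mul_one]) hd₁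
    rw [hwe]
    refine mem_bot.mp (hclosed c₁ ⊥ {dg d₁ w} ?_ ?_ _ (subset_closure rfl))
    · exact Set.singleton_subset_iff.mpr (dg_mem d₁ (hNZ (disp_le (fun k hk => dg_mem k hu₀) hw)))
    rintro _ rfl
    rw [mem_bot]
    -- `disp` consists of elements with vanishing second differences
    have key : w ∈ Z ∧ dg c₁ (dg d₁ w) = 1 := by
      clear hwe
      induction hw using closure_induction with
      | mem s hs =>
        rcases hs with ⟨c, hc, k, hk, rfl⟩ | hs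
        · exact ⟨hNZ (hNn.conj_mem _ (dg_mem k hu₀) c),
            hM₀quad _ (hM₀n.conj_mem _ (hfu u₀ hu₀ k (hBI hk)) c) c₁ hc₁ d₁ hd₁⟩
        · exact ⟨hNZ hs.1, hNBquad s hs c₁ hc₁ d₁ hd₁⟩
      | one => exact ⟨one_mem Z, by rw [dg_one, dg_one]⟩
      | mul s t _ _ h1 h2 =>
        exact ⟨mul_mem h1.1 h2.1, by
          rw [hmulZ d₁ h1.1 h2.1, hmulZ c₁ (dg_mem d₁ h1.1) (dg_mem d₁ h2.1), h1.2, h2.2, one_mul]⟩
      | inv s _ h1 =>
        refine ⟨inv_mem h1.1, ?_⟩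
        have e3 := hmulZ d₁ (inv_mem h1.1) h1.1
        rw [inv_mul_cancel, dg_one] at e3
        have e4 := congrArg (dg c₁) e3
        rw [dg_one, hmulZ c₁ (dg_mem d₁ (inv_mem h1.1)) (dg_mem d₁ h1.1), h1.2, mul_one] at e4
        exact e4.symm
    exact key.2
  -- three steps on every `E`
  have hgood : ∀ V : Subgroup G, N ≤ V → V.Normal → ∀ E : Subgroup G, E.Normal → E ≤ Q →
      (∀ x ∈ E, ∀ w ∈ Z, Commute x w) → (∀ k ∈ Q, ∀ x ∈ E, dg k x ∈ Z) → ∀ u ∈ E,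
      (∀ k ∈ B, dg k u ∈ V) → (dg g)^[3] u ∈ V := by
    intro V hNV hVn E hEn hEQ hEZ hEd u hu hfV
    change dg g (dg g (dg g u)) ∈ V
    obtain ⟨w, hw, he⟩ := h.three_steps (M := Z) (E := E) hZc hZQ hBI hZBcard hZBquad hEQ hEZ hu
      (fun k hk => hEd k (hBI hk).2 u hu) hgA hgA hgA
    rw [he]
    refine hclosed g V _ ?_ ?_ w hw
    · refine Set.union_subset ?_ fun x hx => hx.1
      rintro _ ⟨c, -, k, hk, rfl⟩
      exact (‹Z.Normal›).conj_mem _ (hEd k (hBI hk).2 u hu) c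
    · rintro s (⟨c, -, k, hk, rfl⟩ | hs)
      · exact dg_mem g (hVn.conj_mem _ (hfV k hk) c)
      · have hn : Z ⊓ A ≤ normalizer (NB : Set G) := le_normalizer_iff.mpr fun x hx => hNBA x hx.2
        replace hs : s ∈ ZB := hs
        rw [hZBeq, ← SetLike.mem_coe, coe_mul_of_right_le_normalizer_left _ _ hn] at hs
        obtain ⟨x, hx, y, hy, rfl⟩ := hs
        rw [hmulZ g (hNZ hx.1) hy.1, dg_eq_one.mpr (hAc hgA hy.2), mul_one]
        exact dg_mem g (hNV hx.1)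
  refine ⟨g, hgA, hgQ, ?_, fun E hEn hEQ hEZ hEd x hx =>
    hgood Z hNZ inferInstance E hEn hEQ hEZ hEd x hx fun k hk => hEd k (hBI hk).2 x hx⟩
  -- a series through `N`
  have hab : ∀ {E E' : Subgroup G}, E ≤ Z → ⁅E, E⁆ ≤ E' := fun hE => commutator_le.mpr fun x hx y hy => by
    rw [commutatorElement_eq_one_iff_mul_comm.mpr (hZcm (hE hx) (hE hy)).eq]
    exact one_mem _
  have hbase : Good g 3 N := by
    have hM : Good g 3 M₀ := by
      refine good_step (E₀ := (⊥ : Subgroup G)) (good_bot g 3)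
        (iter_le_of_dg (hab (hlt.le.trans hNZ)) g 3 fun x hx => ?_)
      change dg g (dg g (dg g x)) ∈ (⊥ : Subgroup G)
      rw [hM₀quad (dg g x) (dg_mem g hx) g hgA g hgA]
      exact one_mem _
    exact good_step hM (iter_le_of_dg (hab hNZ) g 3 hgN)
  suffices ∀ E : Subgroup G, E.Normal → N ≤ E → E ≤ Z → Good g 3 E from
    this Z inferInstance hNZ le_rfl
  intro E
  induction hcd : Nat.card E using Nat.strong_induction_on generalizing E with
  | _ k IH =>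
  subst hcd
  intro hEn hNE hEZ
  rcases hNE.eq_or_lt with rfl | hlt'
  · exact hbase
  obtain ⟨V, hV, hVmax⟩ := Set.exists_max_image {V : Subgroup G | V.Normal ∧ N ≤ V ∧ V < E}
    (fun V => Nat.card V) (Set.toFinite _) ⟨N, hNn, le_rfl, hlt'⟩
  obtain ⟨hVn, hNV, hVE⟩ := hV
  have hch : Cfsg.IsChiefFactor E V := ⟨hVE, hEn, hVn, fun W hW h1 h2 => by
    rcases h2.eq_or_lt with rfl | hlt2
    · exact Or.inr rfl
    · exact Or.inl (eq_of_le_of_card_ge h1 (hVmax W ⟨hW, hNV.trans h1, hlt2⟩)).symm⟩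
  refine good_step (IH _ (Core.card_lt_of_lt hVE) V rfl hVn hNV (hVE.le.trans hEZ))
    (iter_le_of_dg (hab hEZ) g 3 fun x hx => ?_)
  exact hgood V hNV hVn E hEn (hEZ.trans hZQ) (fun a ha w hw => hZcm (hEZ ha) hw)
    (fun k _ a ha => dg_mem k (hEZ ha)) x hx
    (fun k hk => dg_mem_of_chief hQ (hEZ.trans hZQ) hch (hBI hk).2 hx)

/-- An element of `T` outside `O_p` of degree six on `O_p`, when some abelian subgroup of largest
order of `T` is outside `O_p`. -/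
theorem exists_good {T A₀ : Subgroup G} (hQT : Cfsg.pCore p G ≤ T) (hTp : IsPGroup p T)
    (hA₀ : Fusion.AbMax 0 T A₀) (hout : ¬ A₀ ≤ Cfsg.pCore p G) :
    ∃ g ∈ T, g ∉ Cfsg.pCore p G ∧ Good g 6 (Cfsg.pCore p G) := by
  obtain ⟨C, hCQ, hCn, -, hQC, hCC, -⟩ := exists_critical_pCore (G := G) (p := p)
  set Q := Cfsg.pCore p G
  set Z := C ⊓ centralizer (C : Set G) with hZ
  have hZn : Z.Normal := inferInstance
  have hZc : IsMulCommutative Z := Fusion.isMulCommutative_of_forall fun x hx y hy =>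
    (mem_centralizer_iff.mp hy.2 x hx.1)
  have hZQ : Z ≤ Q := inf_le_left.trans hCQ
  have hZcen : ∀ x ∈ C, ∀ z ∈ Z, Commute x z := fun x hx z hz => mem_centralizer_iff.mp hz.2 x hx
  have hQp : IsPGroup p Q := Core.pCore_isPGroup
  have hCC' : ⁅C, C⁆ ≤ Z := (commutator_mono hCQ le_rfl).trans hQC
  have hdgQ : ∀ k ∈ Q, ∀ x ∈ C, dg k x ∈ Z := fun k hk x hx => by
    rw [dg_eq, ← commutatorElement_inv]
    exact inv_mem (hQC (commutator_mem_commutator hk (inv_mem hx)))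
  obtain ⟨A, hAT, hA⟩ := exists_pick (Z := Z) hQT hA₀ hout
  have hAp : IsPGroup p A := hTp.to_le hAT
  by_cases hquad : ∀ z ∈ Z, ∀ c ∈ A, ∀ d ∈ A, dg c (dg d z) = 1
  · obtain ⟨g, hgA, hgQ⟩ := SetLike.not_le_iff_exists.mp hA.not_le
    have hZ2 : Good g 2 Z := good_step (E₀ := (⊥ : Subgroup G)) (good_bot g 2) (iter_le_of_dg
      (commutator_le.mpr fun x hx y hy => by
        rw [commutatorElement_eq_one_iff_mul_comm.mpr (hZcen x hx.1 y hy).eq]; exact one_mem _)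
      g 2 fun x hx => mem_bot.mpr (hquad x hx g hgA g hgA))
    have hC5 : Good g 5 C := good_step (hZ2.mono_nat (by norm_num)) (iter_le_of_dg hCC' g 5 fun x hx =>
      hA.five_steps hQp hAp hCQ hdgQ hCC' hZcen inf_le_left hquad _ (dg_iterate_mem_level hgA hx 5))
    exact ⟨g, hAT hgA, hgQ,
      good_of_critical (i := 5) (j := 2) hQp hCQ inf_le_left inf_le_right hQC hCC.le (by norm_num)
        hC5 hZ2⟩
  · push Not at hquad
    obtain ⟨g, hgA, hgQ, hgZ, hgE⟩ := hA.cubic hQp hAp hZc hZQ hquad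
    have hC3 : Good g 3 C := good_step hgZ (iter_le_of_dg hCC' g 3 (hgE C hCn hCQ hZcen hdgQ))
    exact ⟨g, hAT hgA, hgQ, (good_of_critical (i := 3) (j := 3) hQp hCQ inf_le_left inf_le_right hQC
      hCC.le (by norm_num) hC3 hgZ).mono_nat (by norm_num)⟩

end Cfsg.Agent.ThompsonSeven
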