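import Cfsg.Agent.KInf.Action
import Cfsg.Agent.Fusion.AbMax
import Cfsg.Agent.CentLarge.Basic

/-!
# Replacement for an abelian subgroup of least image outside a normal `p`-subgroup

`A` is an abelian subgroup outside the normal `p`-subgroup `Q`, of order at least that of every
abelian subgroup of `Q`, with `Q ⊔ A` least, `|A|` largest and `|A ⊓ Z|` largest.
-/

set_option autoImplicit false

namespace Cfsg.Agent.ThompsonSeven

open Subgroup KInf
open scoped commutatorElement Pointwise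

variable {G : Type*} [Group G] [Finite G]

omit [Finite G] in
theorem dg_mul (c d u : G) : dg (c * d) u = dg c u * (c * dg d u * c⁻¹) := by
  simp only [dg]; group

omit [Finite G] in
theorem dg_eq_one {c u : G} : dg c u = 1 ↔ Commute c u := by
  rw [dg, inv_mul_eq_one, eq_comm, mul_inv_eq_iff_eq_mul]
  rfl

omit [Finite G] in
theorem dg_mul_right {c u v : G} (h : Commute (dg c u) v) : dg c (u * v) = dg c u * dg c v := by
  calc dg c (u * v) = v⁻¹ * dg c u * v * dg c v := by simp only [dg]; group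
    _ = dg c u * dg c v := by rw [mul_assoc v⁻¹, h.eq, inv_mul_cancel_left]

omit [Finite G] in
theorem dg_comm {c d u : G} (hcd : Commute c d) (h : Commute (dg c u) (dg d u)) :
    dg c (dg d u) = dg d (dg c u) := by
  have e : ∀ c d : G, dg c (dg d u) = (dg d u)⁻¹ * ((dg c u)⁻¹ * dg (c * d) u) := fun c d => by
    simp only [dg]; group
  rw [e, e, hcd.eq, ← mul_assoc, ← mul_assoc (dg c u)⁻¹, (h.inv_inv).eq]

/-- The subgroup generated by the differences of `u` under `A`. -/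
def diffs (A : Subgroup G) (u : G) : Subgroup G :=
  closure {x | ∃ c ∈ A, x = dg c u}

omit [Finite G] in
theorem dg_mem_diffs {A : Subgroup G} {c : G} (hc : c ∈ A) (u : G) : dg c u ∈ diffs A u :=
  subset_closure ⟨c, hc, rfl⟩

omit [Finite G] in
theorem diffs_le {A E : Subgroup G} [E.Normal] {u : G} (hu : u ∈ E) : diffs A u ≤ E :=
  (closure_le _).mpr (by rintro _ ⟨c, -, rfl⟩; exact dg_mem c hu)

theorem conj_mem_diffs {A : Subgroup G} {u e x : G} (he : e ∈ A) (hx : x ∈ diffs A u) :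
    e * x * e⁻¹ ∈ diffs A u := by
  suffices diffs A u ≤ (diffs A u).comap (MulAut.conj e).toMonoidHom from this hx
  refine (closure_le _).mpr ?_
  rintro _ ⟨c, hc, rfl⟩
  show e * dg c u * e⁻¹ ∈ diffs A u
  rw [show e * dg c u * e⁻¹ = (dg e u)⁻¹ * dg (e * c) u by rw [dg_mul, inv_mul_cancel_left]]
  exact mul_mem (inv_mem (dg_mem_diffs he u)) (dg_mem_diffs (mul_mem he hc) u)

/-- The choice of `A`. -/
structure Pick (Q Z A : Subgroup G) : Prop where
  comm : IsMulCommutative A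
  not_le : ¬ A ≤ Q
  bound : ∀ Y : Subgroup G, Y ≤ Q ⊔ A → IsMulCommutative Y → Nat.card Y ≤ Nat.card A
  min : ∀ Y : Subgroup G, Y ≤ Q ⊔ A → IsMulCommutative Y → ¬ Y ≤ Q →
    Nat.card A ≤ Nat.card Y → Q ⊔ Y = Q ⊔ A
  maxInf : ∀ Y : Subgroup G, Y ≤ Q ⊔ A → IsMulCommutative Y → ¬ Y ≤ Q →
    Nat.card A ≤ Nat.card Y → Nat.card ↥(Y ⊓ Z) ≤ Nat.card ↥(A ⊓ Z)

/-- A choice exists inside `T`, if some abelian subgroup of largest order of `T` is outside `Q`. -/
theorem exists_pick {Q Z T A₀ : Subgroup G} (hQT : Q ≤ T) (hA₀ : Fusion.AbMax 0 T A₀)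
    (hout : ¬ A₀ ≤ Q) : ∃ A, A ≤ T ∧ Pick Q Z A := by
  classical
  let P : Set (Subgroup G) := {Y | Y ≤ T ∧ IsMulCommutative Y ∧ ¬ Y ≤ Q ∧
    ∀ B : Subgroup G, B ≤ Q → IsMulCommutative B → Nat.card B ≤ Nat.card Y}
  have hP : A₀ ∈ P := ⟨hA₀.le, hA₀.comm, hout, fun B hB hBc =>
    hA₀.max B (Fusion.abMem_zero_iff.mpr ⟨hB.trans hQT, hBc⟩)⟩
  obtain ⟨A₁, hA₁, h1⟩ := Set.exists_min_image P (fun Y => Nat.card ↥(Q ⊔ Y)) (Set.toFinite _) ⟨A₀, hP⟩
  let P₁ : Set (Subgroup G) := {Y ∈ P | Nat.card ↥(Q ⊔ Y) = Nat.card ↥(Q ⊔ A₁)}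
  obtain ⟨A₂, hA₂, h2⟩ :=
    Set.exists_max_image P₁ (fun Y => Nat.card Y) (Set.toFinite _) ⟨A₁, hA₁, rfl⟩
  let P₂ : Set (Subgroup G) := {Y ∈ P₁ | Nat.card Y = Nat.card A₂}
  obtain ⟨A, hA, h3⟩ :=
    Set.exists_max_image P₂ (fun Y => Nat.card ↥(Y ⊓ Z)) (Set.toFinite _) ⟨A₂, hA₂, rfl⟩
  obtain ⟨⟨⟨hAT, hAc, hAQ, hAm⟩, hAi⟩, hA2⟩ := hA
  have key : ∀ Y : Subgroup G, Y ≤ Q ⊔ A → IsMulCommutative Y → ¬ Y ≤ Q →
      Nat.card A ≤ Nat.card Y → Y ∈ P₁ ∧ Q ⊔ Y = Q ⊔ A := by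
    intro Y hY hYc hYQ hle
    have hYP : Y ∈ P := ⟨hY.trans (sup_le hQT hAT), hYc, hYQ, fun B hB hBc => (hAm B hB hBc).trans hle⟩
    have hsup : Q ⊔ Y ≤ Q ⊔ A := sup_le le_sup_left hY
    have he : Q ⊔ Y = Q ⊔ A := eq_of_le_of_card_ge hsup (hAi.trans_le (h1 Y hYP))
    exact ⟨⟨hYP, by rw [he]; exact hAi⟩, he⟩
  refine ⟨A, hAT, hAc, hAQ, fun Y hY hYc => ?_, fun Y hY hYc hYQ hle => (key Y hY hYc hYQ hle).2,
    fun Y hY hYc hYQ hle => ?_⟩
  · by_cases hYQ : Y ≤ Q
    · exact hAm Y hYQ hYc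
    rcases le_total (Nat.card Y) (Nat.card A) with h | h
    · exact h
    · exact (h2 Y (key Y hY hYc hYQ h).1).trans hA2.ge
  · have h4 := (key Y hY hYc hYQ hle).1
    exact h3 Y ⟨h4, le_antisymm (h2 Y h4) (hA2.ge.trans hle)⟩

variable {Q Z A : Subgroup G} [Q.Normal]

theorem Pick.mem_of_commute (h : Pick Q Z A) {X : Subgroup G} (hX : X ≤ Q ⊔ A)
    (hXc : IsMulCommutative X) (hXA : Nat.card A ≤ Nat.card X) {x : G} (hx : x ∈ Q ⊔ A)
    (hcx : ∀ y ∈ X, Commute x y) : x ∈ X := by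
  set Y := closure ((X : Set G) ∪ {x})
  have hY : IsMulCommutative Y := isMulCommutative_closure fun s hs t ht => by
    rcases hs with hs | rfl <;> rcases ht with ht | rfl
    · exact (Fusion.commute_of_isMulCommutative hXc hs ht).eq
    · exact (hcx s hs).symm.eq
    · exact (hcx t ht).eq
    · rfl
  have hXY : X ≤ Y := fun s hs => subset_closure (Or.inl hs)
  have hYle : Y ≤ Q ⊔ A := (closure_le _).mpr
    (Set.union_subset (SetLike.coe_subset_coe.mpr hX) (Set.singleton_subset_iff.mpr hx))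
  exact (eq_of_le_of_card_ge hXY ((h.bound Y hYle hY).trans hXA)).ge (subset_closure (Or.inr rfl))

theorem Pick.mem_self (h : Pick Q Z A) {x : G} (hx : x ∈ Q ⊔ A) (hcx : ∀ y ∈ A, Commute x y) :
    x ∈ A :=
  h.mem_of_commute le_sup_right h.comm le_rfl hx hcx

/-- The centraliser in `A` of the differences of `u`. -/
def fixer (A : Subgroup G) (u : G) : Subgroup G :=
  A ⊓ centralizer (diffs A u : Set G)

theorem Pick.card_diffs (h : Pick Q Z A) {u : G}
    (hL : ∀ c ∈ A, ∀ d ∈ A, Commute (dg c u) (dg d u)) :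
    Nat.card A * Nat.card ↥(diffs A u ⊓ A) ≤ Nat.card (fixer A u) * Nat.card (diffs A u) := by
  set L := diffs A u with hLdef
  set K := fixer A u with hKdef
  have hAc : ∀ {x y : G}, x ∈ A → y ∈ A → Commute x y := fun hx hy =>
    Fusion.commute_of_isMulCommutative h.comm hx hy
  have hLc : IsMulCommutative L := isMulCommutative_closure (by
    rintro _ ⟨c, hc, rfl⟩ _ ⟨d, hd, rfl⟩; exact (hL c hc d hd).eq)
  have hinj : Function.Injective (fun q : A ⧸ K.subgroupOf A =>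
      (QuotientGroup.mk ⟨dg q.out u, dg_mem_diffs q.out.2 u⟩ : L ⧸ (L ⊓ A).subgroupOf L)) := by
    intro q q' he
    have h1 : (dg (q.out : G) u)⁻¹ * dg (q'.out : G) u ∈ L ⊓ A :=
      mem_subgroupOf.mp ((QuotientGroup.eq (s := (L ⊓ A).subgroupOf L)).mp he)
    set a : G := (q.out : G) with ha
    set c : G := a⁻¹ * (q'.out : G) with hc
    have haA : a ∈ A := q.out.2
    have hcA : c ∈ A := mul_mem (inv_mem haA) q'.out.2
    have hac : (q'.out : G) = a * c := by rw [hc, mul_inv_cancel_left]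
    rw [hac, dg_mul, inv_mul_cancel_left] at h1
    have hfA : dg c u ∈ A := by
      have h2 := mem_inf.mp h1
      have h3 := mul_mem (mul_mem (inv_mem haA) h2.2) haA
      rwa [show a⁻¹ * (a * dg c u * a⁻¹) * a = dg c u by group] at h3
    have hcK : c ∈ K := by
      refine mem_inf.mpr ⟨hcA, ?_⟩
      have hle : L ≤ centralizer ({c} : Set G) := by
        refine (closure_le _).mpr ?_
        rintro _ ⟨d, hd, rfl⟩
        refine mem_centralizer_singleton_iff.mpr ?_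
        have h4 : c * dg d u * c⁻¹ = dg d u := by
          have e1 : dg c u * (c * dg d u * c⁻¹) = dg d u * dg c u := by
            have h5 := dg_mul d c u
            rw [(hAc hd hfA).eq, mul_inv_cancel_right] at h5
            rw [← dg_mul, (hAc hcA hd).eq, h5]
          rw [(hL d hd c hcA).eq] at e1
          exact mul_left_cancel e1
        exact (mul_inv_eq_iff_eq_mul.mp h4).symm
      exact mem_centralizer_iff.mpr fun w hw => mem_centralizer_singleton_iff.mp (hle hw)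
    rw [← QuotientGroup.out_eq' q, ← QuotientGroup.out_eq' q']
    exact QuotientGroup.eq.mpr (mem_subgroupOf.mpr hcK)
  have h1 := Nat.card_le_card_of_injective _ hinj
  change (K.subgroupOf A).index ≤ ((L ⊓ A).subgroupOf L).index at h1
  rw [← Subgroup.index_mul_card (K.subgroupOf A),
    Nat.card_congr (subgroupOfEquivOfLe (show K ≤ A from inf_le_left)).toEquiv]
  conv_rhs => rw [← Subgroup.index_mul_card ((L ⊓ A).subgroupOf L),
    Nat.card_congr (subgroupOfEquivOfLe (show L ⊓ A ≤ L from inf_le_left)).toEquiv]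
  calc (K.subgroupOf A).index * Nat.card K * Nat.card ↥(L ⊓ A)
      ≤ ((L ⊓ A).subgroupOf L).index * Nat.card K * Nat.card ↥(L ⊓ A) :=
        Nat.mul_le_mul_right _ (Nat.mul_le_mul_right _ h1)
    _ = _ := by ring

/-- The replacement `C_A(L) L`. -/
theorem Pick.star (h : Pick Q Z A) {u : G} (hu : u ∈ Q)
    (hL : ∀ c ∈ A, ∀ d ∈ A, Commute (dg c u) (dg d u)) :
    IsMulCommutative ↥(fixer A u ⊔ diffs A u) ∧ fixer A u ⊔ diffs A u ≤ Q ⊔ A ∧
      Nat.card A ≤ Nat.card ↥(fixer A u ⊔ diffs A u) := by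
  have hle : fixer A u ⊔ diffs A u ≤ Q ⊔ A :=
    sup_le (inf_le_left.trans le_sup_right) ((diffs_le hu).trans le_sup_left)
  refine ⟨?_, hle, ?_⟩
  · rw [sup_eq_closure]
    refine isMulCommutative_closure ?_
    rintro s (hs | hs) t (ht | ht)
    · exact (Fusion.commute_of_isMulCommutative h.comm hs.1 ht.1).eq
    · exact (mem_centralizer_iff.mp hs.2 t ht).symm
    · exact mem_centralizer_iff.mp ht.2 s hs
    · exact (Fusion.commute_of_isMulCommutative (isMulCommutative_closure (by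
        rintro _ ⟨c, hc, rfl⟩ _ ⟨d, hd, rfl⟩; exact (hL c hc d hd).eq)) hs ht).eq
  · have h1 := CentLarge.card_mul_le_of_le (le_sup_left : fixer A u ≤ fixer A u ⊔ diffs A u)
      (le_sup_right : diffs A u ≤ fixer A u ⊔ diffs A u)
    have h2 : Nat.card ↥(fixer A u ⊓ diffs A u) ≤ Nat.card ↥(diffs A u ⊓ A) :=
      Nat.le_of_dvd Nat.card_pos (card_dvd_of_le fun x hx => mem_inf.mpr ⟨hx.2, hx.1.1⟩)
    exact Nat.le_of_mul_le_mul_right
      ((h.card_diffs hL).trans (h1.trans (Nat.mul_le_mul_left _ h2))) Nat.card_pos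

theorem Pick.mem_star (h : Pick Q Z A) {u : G} (hu : u ∈ Q)
    (hL : ∀ c ∈ A, ∀ d ∈ A, Commute (dg c u) (dg d u)) {x : G} (hx : x ∈ Q)
    (hxK : ∀ k ∈ fixer A u, Commute x k) (hxL : ∀ c ∈ A, Commute x (dg c u)) :
    x ∈ fixer A u ⊔ diffs A u := by
  obtain ⟨hc, hle, hcard⟩ := h.star hu hL
  refine h.mem_of_commute hle hc hcard (mem_sup_left hx) ?_
  have : fixer A u ⊔ diffs A u ≤ centralizer ({x} : Set G) := by
    refine sup_le (fun k hk => mem_centralizer_singleton_iff.mpr (hxK k hk).symm.eq) ((closure_le _).mpr ?_)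
    rintro _ ⟨c, hc, rfl⟩
    exact mem_centralizer_singleton_iff.mpr (hxL c hc).symm.eq
  exact fun y hy => (mem_centralizer_singleton_iff.mp (this hy)).symm

/-- A centraliser leaving `Q` covers the image of `A`. -/
theorem Pick.cover (h : Pick Q Z A) {u : G} (hu : u ∈ Q)
    (hL : ∀ c ∈ A, ∀ d ∈ A, Commute (dg c u) (dg d u)) (hK : ¬ fixer A u ≤ Q) :
    A ≤ fixer A u ⊔ (A ⊓ Q) := by
  obtain ⟨hc, hle, hcard⟩ := h.star hu hL
  have he := h.min _ hle hc (fun hh => hK (le_sup_left.trans hh)) hcard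
  intro a ha
  have : a ∈ Q ⊔ fixer A u := by
    have h1 : a ∈ Q ⊔ (fixer A u ⊔ diffs A u) := he.ge (mem_sup_right ha)
    rwa [sup_comm (fixer A u), ← sup_assoc, sup_eq_left.mpr (diffs_le hu)] at h1
  obtain ⟨q, hq, k, hk, rfl⟩ := mem_sup_of_normal_left.mp this
  have hqA : q ∈ A := by
    have := mul_mem ha (inv_mem hk.1)
    rwa [mul_inv_cancel_right] at this
  exact mul_mem (mem_sup_right (mem_inf.mpr ⟨hqA, hq⟩)) (mem_sup_left hk)

/-- A centraliser leaving `Q` forces quadratic action on an element of `Z`. -/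
theorem Pick.quad (h : Pick Q Z A) [Z.Normal] (hZc : IsMulCommutative Z) (hZQ : Z ≤ Q) {u : G}
    (hu : u ∈ Z) (hK : ¬ fixer A u ≤ Q) : ∀ c ∈ A, ∀ d ∈ A, dg c (dg d u) = 1 := by
  have hL : ∀ c ∈ A, ∀ d ∈ A, Commute (dg c u) (dg d u) := fun c _ d _ =>
    Fusion.commute_of_isMulCommutative hZc (dg_mem c hu) (dg_mem d hu)
  obtain ⟨hc, hle, hcard⟩ := h.star (hZQ hu) hL
  set L := diffs A u
  set K := fixer A u
  set Y := closure ((↑(K ⊔ L) : Set G) ∪ ↑(A ⊓ Z)) with hY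
  have hKLY : K ⊔ L ≤ Y := fun x hx => subset_closure (Or.inl hx)
  have hYc : IsMulCommutative Y := by
    refine isMulCommutative_closure ?_
    have hAZ : ∀ w ∈ A ⊓ Z, ∀ s ∈ K ⊔ L, Commute w s := fun w hw s hs => by
      have : K ⊔ L ≤ centralizer ({w} : Set G) := sup_le
        (fun k hk => mem_centralizer_singleton_iff.mpr
          (Fusion.commute_of_isMulCommutative h.comm hk.1 hw.1).eq)
        (fun l hl => mem_centralizer_singleton_iff.mpr
          (Fusion.commute_of_isMulCommutative hZc (diffs_le hu hl) hw.2).eq)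
      exact (mem_centralizer_singleton_iff.mp (this hs)).symm
    rintro s (hs | hs) t (ht | ht)
    · exact (Fusion.commute_of_isMulCommutative hc hs ht).eq
    · exact (hAZ t ht s hs).symm.eq
    · exact (hAZ s hs t ht).eq
    · exact (Fusion.commute_of_isMulCommutative h.comm hs.1 ht.1).eq
  have hYle : Y ≤ Q ⊔ A := (closure_le _).mpr (Set.union_subset (SetLike.coe_subset_coe.mpr hle)
    (SetLike.coe_subset_coe.mpr (inf_le_left.trans le_sup_right)))
  have h1 := h.maxInf Y hYle hYc (fun hh => hK ((le_sup_left.trans hKLY).trans hh))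
    (hcard.trans (Nat.le_of_dvd Nat.card_pos (card_dvd_of_le hKLY)))
  have he : A ⊓ Z = Y ⊓ Z :=
    eq_of_le_of_card_ge (le_inf (fun x hx => subset_closure (Or.inr hx)) inf_le_right) h1
  intro c hc d hd
  have hmem : dg d u ∈ A :=
    (he.ge (mem_inf.mpr ⟨hKLY (mem_sup_right (dg_mem_diffs hd u)), dg_mem d hu⟩)).1
  exact dg_eq_one.mpr (Fusion.commute_of_isMulCommutative h.comm hc hmem)

end Cfsg.Agent.ThompsonSeven
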